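import Cfsg.Agent.Spor.O351.L.D0

set_option autoImplicit false
set_option maxRecDepth 100000000
set_option Elab.async false

namespace Cfsg.Agent.Spor.O351.L

theorem rel3 : U.rel 9 [1, 18, 1, 17] 0 9 = true := by decide +kernel

theorem uok9 : Net.okb 9 un9 = true := by decide +kernel

theorem rel4 : U.rel 9 [19, 9, 1, 5, 1, 7, 13, 15] 0 9 = true := by decide +kernel

theorem uok10 : Net.okb 9 un10 = true := by decide +kernel

theorem rel5 : U.rel 9 [21, 13, 9, 15, 5, 9, 3, 7, 1, 5, 11, 15, 5, 15, 5, 7, 9, 7, 15, 5, 11, 3, 13, 1, 11, 15, 1, 13, 9, 1, 11, 7, 15, 7, 5, 13, 7, 9, 1, 9, 5, 9, 15, 1, 3, 7, 1, 7, 5, 1, 13, 7, 11, 15, 7, 9, 1, 15, 11, 1, 13, 9, 1, 11, 15, 1, 3, 11, 3, 5, 15, 1, 5, 3] 0 9 = true := by decide +kernel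

theorem gr7 : sub M6 (U.growI W1 [1, 2, 3, 4, 5, 6, 7, 2, 1, 0, 1, 2, 3, 4, 6, 2, 1, 0, 3, 4, 5, 6, 7, 2, 1, 0] (Nat.shiftLeft 1 0)) = true := by decide +kernel

theorem cl9 : band (U.closedW W1 M6) (sub (Nat.shiftLeft 1 0) M6) = true := by decide +kernel

theorem sz10 : sizeOk 9 M6 351 = true := by decide +kernel

theorem fx13 : U.closedW W12 (Nat.shiftLeft 1 0) = true := by decide +kernel

theorem uok11 : Net.okb 9 un11 = true := by decide +kernel

theorem rel14 : U.rel 9 [23, 21, 21, 19, 21, 21, 19, 21, 19, 19, 21, 21, 19, 21, 19, 21, 21, 21, 21, 19, 19, 19, 21, 21, 19, 19, 19, 19] 0 9 = true := by decide +kernel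

theorem uok12 : Net.okb 9 un12 = true := by decide +kernel

theorem rel15 : U.rel 9 [25, 19, 19, 19, 21, 21, 19, 19, 19, 19, 21, 19, 19, 21, 21, 19, 21, 21, 21, 19, 21, 21, 19, 21, 19, 19, 19, 19, 21, 19, 21, 21, 21, 19, 21, 19, 19] 0 9 = true := by decide +kernel

theorem gr17 : sub M16 (U.growI W12 [0, 1, 1, 0, 0, 1, 1, 0, 0, 1, 1, 0, 0, 1, 1, 0] (Nat.shiftLeft 1 1)) = true := by decide +kernel

theorem cl19 : band (U.closedW W12 M16) (sub (Nat.shiftLeft 1 1) M16) = true := by decide +kernel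

theorem sz20 : sizeOk 9 M16 224 = true := by decide +kernel

theorem fx23 : U.closedW W22 (Nat.shiftLeft 1 1) = true := by decide +kernel

theorem uok13 : Net.okb 9 un13 = true := by decide +kernel

theorem rel24 : U.rel 9 [27, 23, 25, 23, 25, 23, 25, 25, 23, 25, 25, 23, 23, 23, 23, 25, 23, 23, 25, 25, 23, 23, 25, 25, 23, 23, 23, 25, 23, 23, 23, 25] 0 9 = true := by decide +kernel

theorem uok14 : Net.okb 9 un14 = true := by decide +kernel

theorem rel25 : U.rel 9 [29, 23, 23, 23, 23, 23, 25, 23, 25, 23, 25, 25, 25, 23, 25, 23, 23, 25, 23, 25, 23, 23, 25, 23, 23, 25, 23, 23, 23, 25, 25, 23] 0 9 = true := by decide +kernel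

theorem gr27 : sub M26 (U.growI W22 [0, 1, 1, 0, 0, 1, 1, 0, 0, 1, 1, 0, 0, 1] (Nat.shiftLeft 1 3)) = true := by decide +kernel

theorem cl29 : band (U.closedW W22 M26) (sub (Nat.shiftLeft 1 3) M26) = true := by decide +kernel

theorem sz30 : sizeOk 9 M26 81 = true := by decide +kernel

theorem fx33 : U.closedW W32 (Nat.shiftLeft 1 3) = true := by decide +kernel

theorem uok15 : Net.okb 9 un15 = true := by decide +kernel

theorem rel34 : U.rel 9 [31, 27, 27, 29, 29, 29, 27, 29, 29, 27, 29, 27, 27, 27, 29, 29, 29, 27, 27, 27, 29, 27, 29, 27, 27, 27, 29, 27, 27, 29, 27] 0 9 = true := by decide +kernel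

theorem uok16 : Net.okb 9 un16 = true := by decide +kernel

theorem rel35 : U.rel 9 [33, 27, 27, 27, 27, 29, 29, 29, 27, 29, 29, 27, 27, 29, 29, 29, 27, 29, 27, 27, 29, 27] 0 9 = true := by decide +kernel

theorem gr37 : sub M36 (U.growI W32 [0, 1, 1, 0, 0, 1, 1, 0, 0, 1] (Nat.shiftLeft 1 5)) = true := by decide +kernel

theorem cl39 : band (U.closedW W32 M36) (sub (Nat.shiftLeft 1 5) M36) = true := by decide +kernel

theorem sz40 : sizeOk 9 M36 30 = true := by decide +kernel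

theorem fx43 : U.closedW W42 (Nat.shiftLeft 1 5) = true := by decide +kernel

theorem uok17 : Net.okb 9 un17 = true := by decide +kernel

theorem rel44 : U.rel 9 [35, 31, 33, 33, 31, 31, 31, 31, 33, 33, 33, 33, 33, 31, 31, 31, 31, 33, 31, 31, 33, 33] 0 9 = true := by decide +kernel

theorem gr46 : sub M45 (U.growI W42 [0, 1, 1, 0, 0] (Nat.shiftLeft 1 6)) = true := by decide +kernel

theorem cl48 : band (U.closedW W42 M45) (sub (Nat.shiftLeft 1 6) M45) = true := by decide +kernel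

theorem sz49 : sizeOk 9 M45 12 = true := by decide +kernel

theorem fx52 : U.closedW W51 (Nat.shiftLeft 1 6) = true := by decide +kernel

theorem gr53 : sub 0x40400 (U.growI W51 [0] (Nat.shiftLeft 1 10)) = true := by decide +kernel

theorem cl55 : band (U.closedW W51 0x40400) (sub (Nat.shiftLeft 1 10) 0x40400) = true := by decide +kernel

theorem sz56 : sizeOk 9 0x40400 2 = true := by decide +kernel

end Cfsg.Agent.Spor.O351.L
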